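import Groth.Prelude.Def_CycCov
import Groth.Prelude.Def_ExtPow2
import Groth.Agent.CycCov28.Setup
import Groth.Agent.Lift15.NegCanonical
import Groth.Agent.Frob15.TopForm
import Groth.Agent.PicLib.FiniteSetTriv
import Groth.Agent.PicLib.PullbackGen
import Mathlib.AlgebraicGeometry.Fiber

/-!
# The norm of an invertible module along a flat double cover
-/

set_option autoImplicit false
set_option linter.style.haveILetI false
set_option backward.isDefEq.respectTransparency false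
set_option maxHeartbeats 1000000

universe u

open CategoryTheory AlgebraicGeometry TopologicalSpace Opposite
open Groth.Agent.Coherent Groth.Agent.PicLib Groth.Agent.AmpleLib

noncomputable section

namespace Groth.Agent.DblNorm28

/-- A trivialisation on an open gives a generator on it. -/
theorem exists_gen_of_triv {X : Scheme.{u}} {L : X.Modules} {U : X.Opens}
    (e : L.restrict U.ι ≅ Coh.structureModule (U : Scheme.{u})) : ∃ s : Γ(L, U), PicLib.IsGen L U s := by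
  let s : Γ(L, U.ι ''ᵁ ⊤) := (L.restrictAppIso U.ι ⊤).hom (unitVal e.inv ⊤)
  refine ⟨resM L (Scheme.Opens.ι_image_top U).ge s, fun V hV => ?_⟩
  simp only [resM_resM]
  obtain ⟨W, rfl⟩ : ∃ W : U.toScheme.Opens, U.ι ''ᵁ W = V := by
    refine ⟨U.ι ⁻¹ᵁ V, ?_⟩
    rw [U.ι.image_preimage_eq_opensRange_inf, Scheme.Opens.opensRange_ι, inf_eq_right]
    exact hV
  have hle : U.ι ''ᵁ W ≤ U.ι ''ᵁ ⊤ := U.ι.image_mono le_top
  have hb1 := ConcreteCategory.bijective_of_isIso (e.inv.app W)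
  have hb2 := ConcreteCategory.bijective_of_isIso (L.restrictAppIso U.ι W).hom
  have hb3 := ConcreteCategory.bijective_of_isIso (U.ι.appIso W).hom
  have : (fun r : Γ(X, U.ι ''ᵁ W) => r • resM L hle s) =
      fun r => (L.restrictAppIso U.ι W).hom (e.inv.app W ((U.ι.appIso W).hom r)) := by
    funext r
    refine Eq.trans ?_ (congrArg (L.restrictAppIso U.ι W).hom (app_unit e.inv ((U.ι.appIso W).hom r))).symm
    rw [← resM_unitVal e.inv (le_top : W ≤ ⊤)]
    refine Eq.trans ?_ (Scheme.Modules.smul_restrictAppIso_hom_apply U.ι L W ((U.ι.appIso W).hom r) _).symm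
    rw [← ConcreteCategory.comp_apply (U.ι.appIso W).hom, Iso.hom_inv_id]
    rfl
  rw [this]
  exact hb2.comp (hb1.comp hb3)

theorem alt_two {A M N : Type u} [CommRing A] [AddCommGroup M] [Module A M] [AddCommGroup N] [Module A N]
    (f : M [⋀^Fin 2]→ₗ[A] N) (a b c d : A) (x y : M) :
    f ![a • x + b • y, c • x + d • y] = (a * d - b * c) • f ![x, y] := by
  have h : ∀ u v : M, f ![u, v] = f.curryLeft u ![v] := fun u v => rfl
  have hxx : f ![x, x] = 0 := f.map_eq_zero_of_eq _ (i := 0) (j := 1) rfl (by decide)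
  have hyy : f ![y, y] = 0 := f.map_eq_zero_of_eq _ (i := 0) (j := 1) rfl (by decide)
  have hyx : f ![y, x] = -f ![x, y] := by
    have := f.map_swap ![x, y] (i := 0) (j := 1) (by decide)
    rw [← this]
    congr 1
    ext i
    fin_cases i <;> rfl
  have hr : ∀ u : M, f ![u, c • x + d • y] = c • f ![u, x] + d • f ![u, y] := fun u => by
    rw [h, AlternatingMap.map_vecCons_add, AlternatingMap.map_vecCons_smul, AlternatingMap.map_vecCons_smul]
    rfl
  rw [AlternatingMap.map_vecCons_add, AlternatingMap.map_vecCons_smul, AlternatingMap.map_vecCons_smul, hr, hr,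
    hxx, hyy, hyx, sub_smul, mul_smul, mul_smul]
  simp [smul_smul]
  abel

variable {Y Yb : Scheme.{u}} {L : Y.Modules} {s : Coh.structureModule Y ⟶ CohB1.tensorPow L 2}
  {g : Yb ⟶ Y}

theorem bijective_chart (R : CycCov.Root L 2 s g) (hR : CycCov.IsSimple R) (U : Y.affineOpens) (e : Γ(L, U.1))
    (he : PicLib.IsGen L U.1 e) :
    Function.Bijective (fun a : Fin 2 → Γ(Y, U.1) =>
      (g.app U.1).hom (a 0) + (g.app U.1).hom (a 1) * R.t U e (CycCov28.cycGen he)) := by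
  obtain ⟨f, hf⟩ := ((isGen_powSec he 2) U.1 le_rfl).2 (SecTwist.val s U.1)
  simp only [resM_self] at hf
  have hf' : SecTwist.val s U.1 = f • CycCov.lpow L U.1 e 2 := by rw [CycCov28.lpow_eq]; exact hf.symm
  rcases subsingleton_or_nontrivial Γ(Y, U.1) with h | h
  · haveI : Subsingleton Γ(Yb, g ⁻¹ᵁ U.1) := ⟨fun p q => by
      have h1 : (1 : Γ(Yb, g ⁻¹ᵁ U.1)) = 0 := by
        rw [← map_one (g.app U.1).hom, Subsingleton.elim (1 : Γ(Y, U.1)) 0, map_zero]
      rw [← one_mul p, h1, zero_mul, ← one_mul q, h1, zero_mul]⟩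
    exact ⟨fun _ _ _ => Subsingleton.elim _ _, fun z => ⟨0, Subsingleton.elim _ _⟩⟩
  have hb := hR.2 U e (CycCov28.cycGen he) f hf'
  have key : (fun a : Fin 2 → Γ(Y, U.1) =>
      (g.app U.1).hom (a 0) + (g.app U.1).hom (a 1) * R.t U e (CycCov28.cycGen he)) =
      fun a => CycCov.chart R U e (CycCov28.cycGen he) f hf'
        (∑ i : Fin 2, AdjoinRoot.of (Polynomial.X ^ 2 - Polynomial.C f) (a i) * AdjoinRoot.root _ ^ (i : ℕ)) := by
    funext a
    rw [CycCov28.chart_sum, Fin.sum_univ_two]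
    simp
  rw [key]
  refine hb.comp ⟨fun a a' haa => ?_, fun z => ?_⟩
  · refine sub_eq_zero.1 (CycCov28.coeff_eq_zero 2 f (a - a') ?_)
    simp only [Pi.sub_apply, map_sub, sub_mul, Finset.sum_sub_distrib]
    exact sub_eq_zero.2 haa
  · obtain ⟨a, ha⟩ := CycCov28.exists_coeff 2 (by norm_num) f z
    exact ⟨a, ha.symm⟩

theorem isFinite_cover (hL : PicF.IsInvertible L) (R : CycCov.Root L 2 s g) (hR : CycCov.IsSimple R) : IsFinite g := by
  haveI := hR.1
  choose U hy e he using fun y => exists_isGen hL y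
  have : ∀ y : Y, ∃ A : Y.affineOpens, y ∈ A.1 ∧ A.1 ≤ U y := fun y => by
    obtain ⟨A, hA, hyA, hle⟩ := Opens.isBasis_iff_nbhd.mp Y.isBasis_affineOpens (hy y)
    exact ⟨⟨A, hA⟩, hyA, hle⟩
  choose A hyA hle using this
  refine (HasAffineProperty.iff_of_iSup_eq_top (P := @IsFinite) A
    (eq_top_iff.2 fun y _ => Opens.mem_iSup.2 ⟨y, hyA y⟩)).2 fun y => ?_
  refine ⟨(A y).2.preimage g, ?_⟩
  have hfin : (g.app (A y).1).hom.Finite := by
    letI := (g.app (A y).1).hom.toAlgebra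
    refine (RingHom.finite_algebraMap).2 (Module.Finite.of_surjective
      (Fintype.linearCombination Γ(Y, (A y).1) ![(1 : Γ(Yb, g ⁻¹ᵁ (A y).1)),
        R.t (A y) (resM L (hle y) (e y)) (CycCov28.cycGen ((he y).restrict (hle y)))]) fun z => ?_)
    obtain ⟨a, ha⟩ := (bijective_chart R hR (A y) _ ((he y).restrict (hle y))).2 z
    refine ⟨a, ?_⟩
    rw [Fintype.linearCombination_apply, Fin.sum_univ_two, Algebra.smul_def, Algebra.smul_def]
    simpa [RingHom.algebraMap_toAlgebra] using ha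
  rw [morphismRestrict_appTop, CommRingCat.hom_comp, RingHom.finite_respectsIso.cancel_right_isIso]
  show (g.app ((A y).1.ι ''ᵁ ⊤)).hom.Finite
  rw [Scheme.Opens.ι_image_top]
  exact hfin

variable (R : CycCov.Root L 2 s g) (M : Yb.Modules)

/-- Frames of `L` and of `M` over an affine open. -/
structure Chart where
  /-- the open -/
  V : Y.affineOpens
  /-- the frame of `L` -/
  e : Γ(L, V.1)
  he : PicLib.IsGen L V.1 e
  /-- the frame of `M` -/
  m : Γ(M, g ⁻¹ᵁ V.1)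
  hm : PicLib.IsGen M (g ⁻¹ᵁ V.1) m

variable {R M}

/-- Restriction of a chart. -/
@[reducible]
def Chart.restr (d : Chart (g := g) (L := L) M) (A : Y.affineOpens) (h : A.1 ≤ d.V.1) : Chart (g := g) (L := L) M :=
  ⟨A, resM L h d.e, d.he.restrict h, resM M (g.preimage_mono h) d.m, d.hm.restrict _⟩

variable (R)

/-- The root coordinate of a chart. -/
def Chart.t (d : Chart (g := g) (L := L) M) : Γ(Yb, g ⁻¹ᵁ d.V.1) := R.t d.V d.e (CycCov28.cycGen d.he)

theorem Chart.t_restr (d : Chart (g := g) (L := L) M) (A : Y.affineOpens) (h : A.1 ≤ d.V.1) :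
    Yb.presheaf.map (homOfLE (g.preimage_mono h)).op (d.t R) = (d.restr A h).t R :=
  R.t_res d.V A h d.e _ _

variable {σ : Yb ⟶ Yb} (hσg : σ ≫ g = g)

include hσg in
theorem le_σ (V : Y.Opens) : g ⁻¹ᵁ V ≤ σ ⁻¹ᵁ (g ⁻¹ᵁ V) := by
  rw [← Scheme.Hom.comp_preimage, hσg]

theorem σ_g (V : Y.Opens) (a : Γ(Y, V)) :
    (σ.appLE (g ⁻¹ᵁ V) (g ⁻¹ᵁ V) (le_σ hσg V)).hom ((g.app V).hom a) = (g.app V).hom a := by
  have h : g.app V ≫ σ.appLE (g ⁻¹ᵁ V) (g ⁻¹ᵁ V) (le_σ hσg V) = g.app V := by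
    rw [g.app_eq_appLE, Scheme.Hom.appLE_comp_appLE]
    simp only [hσg]
  exact ConcreteCategory.congr_hom h a

variable {Δ : Y.Modules}
  (φ : ∀ U : Y.affineOpens, (Δ.val.obj (op U.1)) ≃ₗ[Γ(Y, U.1)]
    ↥(⋀[Γ(Y, U.1)]^2 (((Scheme.Modules.pushforward g).obj M).val.obj (op U.1))))
  (hφ : ∀ (U V : Y.affineOpens) (h : V.1 ≤ U.1) (e : Fin 2 → ((Scheme.Modules.pushforward g).obj M).val.obj (op U.1)),
      Δ.val.map (homOfLE h).op ((φ U).symm (exteriorPower.ιMulti _ 2 e)) =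
        (φ V).symm (exteriorPower.ιMulti _ 2 (fun j => ((Scheme.Modules.pushforward g).obj M).val.map (homOfLE h).op (e j))))

/-- The frame of `g_* M` of a chart. -/
def Chart.frame (d : Chart (g := g) (L := L) M) :
    Fin 2 → ((Scheme.Modules.pushforward g).obj M).val.obj (op d.V.1) :=
  fun i => if i = 0 then d.m else d.t R • d.m

/-- The frame of `det g_* M` of a chart. -/
def Chart.w (d : Chart (g := g) (L := L) M) : Γ(Δ, d.V.1) :=
  (φ d.V).symm (exteriorPower.ιMulti _ 2 (d.frame R))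

theorem Chart.frame_restr (d : Chart (g := g) (L := L) M) (A : Y.affineOpens) (h : A.1 ≤ d.V.1) :
    (fun j => ((Scheme.Modules.pushforward g).obj M).val.map (homOfLE h).op (d.frame R j)) = (d.restr A h).frame R := by
  funext j
  fin_cases j
  · rfl
  · show resM M (g.preimage_mono h) (d.t R • d.m) = (d.restr A h).t R • resM M (g.preimage_mono h) d.m
    rw [resM_smul, d.t_restr R A h]

include hφ in
theorem Chart.w_restr (d : Chart (g := g) (L := L) M) (A : Y.affineOpens) (h : A.1 ≤ d.V.1) :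
    resM Δ h (d.w R φ) = (d.restr A h).w R φ := by
  refine (hφ d.V A h (d.frame R)).trans ?_
  exact congrArg (fun z => (φ A).symm (exteriorPower.ιMulti _ 2 z)) (d.frame_restr R A h)

include hφ in
theorem Chart.isGen_w (hR : CycCov.IsSimple R) (d : Chart (g := g) (L := L) M) :
    PicLib.IsGen Δ d.V.1 (d.w R φ) := by
  refine Lift15.isGen_of_affine _ fun A hA h => ?_
  rw [show resM Δ h (d.w R φ) = (d.restr ⟨A, hA⟩ h).w R φ from d.w_restr R φ hφ ⟨A, hA⟩ h]
  let d' := d.restr ⟨A, hA⟩ h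
  let E := ((Scheme.Modules.pushforward g).obj M).val.obj (op A)
  let T : (Fin 2 → Γ(Y, A)) →ₗ[Γ(Y, A)] E := Fintype.linearCombination Γ(Y, A) (d'.frame R)
  have hT : Function.Bijective T := by
    have h2 := d'.hm _ le_rfl
    simp only [resM_self] at h2
    have key : ⇑T = (fun r : Γ(Yb, g ⁻¹ᵁ A) => r • d'.m) ∘ fun a : Fin 2 → Γ(Y, A) =>
        (g.app A).hom (a 0) + (g.app A).hom (a 1) * d'.t R := funext fun a => by
      show Fintype.linearCombination Γ(Y, A) (d'.frame R) a = _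
      rw [Fintype.linearCombination_apply, Fin.sum_univ_two]
      show (g.app A).hom (a 0) • d'.m + (g.app A).hom (a 1) • (d'.t R • d'.m) = _
      rw [Function.comp_apply, add_smul, mul_smul]
    rw [key]
    exact h2.comp (bijective_chart R hR ⟨A, hA⟩ _ d'.he)
  let b : Module.Basis (Fin 2) Γ(Y, A) E := Module.Basis.ofEquivFun (LinearEquiv.ofBijective T hT).symm
  have hb : ⇑b = d'.frame R := funext fun i => by
    classical
    simp [b, T, Fintype.linearCombination_apply, Module.Basis.coe_ofEquivFun, LinearEquiv.ofBijective_apply,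
      Pi.single_apply, ite_smul]
  have hbij := Frob15.bijective_smul_ιMulti b
  rw [hb] at hbij
  have key : (fun r : Γ(Y, A) => r • d'.w R φ) =
      ⇑(φ ⟨A, hA⟩).symm ∘ (fun r : Γ(Y, A) => r • exteriorPower.ιMulti Γ(Y, A) 2 (d'.frame R)) :=
    funext fun r => ((φ ⟨A, hA⟩).symm.map_smul r _).symm
  rw [key]
  exact (φ ⟨A, hA⟩).symm.bijective.comp hbij

/-- The frame of the source. -/
def Chart.src (d : Chart (g := g) (L := L) M) :
    Γ(CohB1.tensorMod ((Scheme.Modules.pullback g).obj Δ) ((Scheme.Modules.pullback g).obj L), g ⁻¹ᵁ d.V.1) :=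
  tmul (pullSec g (d.w R φ)) (pullSec g d.e)

/-- The frame of the target. -/
def Chart.tgt (d : Chart (g := g) (L := L) M) :
    Γ(CohB1.tensorMod M ((Scheme.Modules.pullback σ).obj M), g ⁻¹ᵁ d.V.1) :=
  tmul d.m (resM _ (le_σ hσg d.V.1) (pullSec σ d.m))

include hφ in
theorem Chart.src_restr (d : Chart (g := g) (L := L) M) (A : Y.affineOpens) (h : A.1 ≤ d.V.1) :
    resM _ (g.preimage_mono h) (d.src R φ) = (d.restr A h).src R φ := by
  show resM _ _ (tmul _ _) = _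
  rw [resM_tmul, resM_pullSec g h, resM_pullSec g h, d.w_restr R φ hφ A h]
  rfl

theorem Chart.tgt_restr (d : Chart (g := g) (L := L) M) (A : Y.affineOpens) (h : A.1 ≤ d.V.1) :
    resM _ (g.preimage_mono h) (d.tgt hσg) = (d.restr A h).tgt hσg := by
  show resM _ _ (tmul _ _) = tmul (resM M _ d.m) (resM _ _ (pullSec σ (resM M _ d.m)))
  rw [resM_tmul, ← resM_pullSec σ (g.preimage_mono h), resM_resM, resM_resM]

/-- The transition functions agree. -/
theorem transition (hR : CycCov.IsSimple R)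
    (hσt : ∀ (U : Y.affineOpens) (e : L.val.obj (op U.1)) (he : CycCov.IsGen L U.1 e)
      (hle : g ⁻¹ᵁ U.1 ≤ σ ⁻¹ᵁ (g ⁻¹ᵁ U.1)),
      (σ.appLE (g ⁻¹ᵁ U.1) (g ⁻¹ᵁ U.1) hle).hom (R.t U e he) = -R.t U e he)
    (A : Y.affineOpens) (e e' : Γ(L, A.1)) (he : PicLib.IsGen L A.1 e) (he' : PicLib.IsGen L A.1 e')
    (m m' : Γ(M, g ⁻¹ᵁ A.1)) (hm : PicLib.IsGen M (g ⁻¹ᵁ A.1) m) (hm' : PicLib.IsGen M (g ⁻¹ᵁ A.1) m') :
    ∃ c : Γ(Yb, g ⁻¹ᵁ A.1), (⟨A, e', he', m', hm'⟩ : Chart M).src R φ = c • (⟨A, e, he, m, hm⟩ : Chart M).src R φ ∧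
      (⟨A, e', he', m', hm'⟩ : Chart M).tgt hσg = c • (⟨A, e, he, m, hm⟩ : Chart M).tgt hσg := by
  let d : Chart (g := g) (L := L) M := ⟨A, e, he, m, hm⟩
  let d' : Chart (g := g) (L := L) M := ⟨A, e', he', m', hm'⟩
  let G := (g.app A.1).hom
  obtain ⟨l, hl⟩ := (he A.1 le_rfl).2 e'
  simp only [resM_self] at hl
  have hlu : IsUnit l := by
    have h1 := he.isUnit_coef he'
    rwa [he.coef_eq le_rfl (r := l) (x := e') (by rw [resM_self]; exact hl)] at h1
  obtain ⟨lu, rfl⟩ := hlu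
  obtain ⟨u, hu⟩ := (hm (g ⁻¹ᵁ A.1) le_rfl).2 m'
  simp only [resM_self] at hu
  obtain ⟨ab, hab⟩ := (bijective_chart R hR A e he).2 u
  obtain ⟨f, hf⟩ := ((isGen_powSec he 2) A.1 le_rfl).2 (SecTwist.val s A.1)
  simp only [resM_self] at hf
  have htt : d.t R * d.t R = G f := by
    rw [← pow_two]
    exact R.pow_eq A e (CycCov28.cycGen he) f (by rw [CycCov28.lpow_eq]; exact hf.symm)
  let a := ab 0
  let b := ab 1
  replace hab : u = G a + G b * d.t R := hab.symm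
  let li : Γ(Y, A.1) := ((lu⁻¹ : Γ(Y, A.1)ˣ) : Γ(Y, A.1))
  have hli : li * (lu : Γ(Y, A.1)) = 1 := lu.inv_mul
  have ht' : d'.t R = G li * d.t R := by
    have h1 := R.t_smul A e (CycCov28.cycGen he) (lu : Γ(Y, A.1)) (by rw [hl]; exact CycCov28.cycGen he')
    have h2 : d'.t R * G (lu : Γ(Y, A.1)) = d.t R := by
      refine Eq.trans ?_ h1
      congr 1
      show R.t A e' _ = _
      congr 1
      exact hl.symm
    rw [← h2, mul_left_comm, ← map_mul, hli, map_one, mul_one]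
  refine ⟨G (a * a - b * b * f), ?_, ?_⟩
  · have hw : d'.w R φ = (li * (a * a - b * b * f)) • d.w R φ := by
      show (φ A).symm _ = _ • (φ A).symm _
      rw [← map_smul]
      congr 1
      have hfr : d'.frame R = ![a • d.frame R 0 + b • d.frame R 1,
          (li * (b * f)) • d.frame R 0 + (li * a) • d.frame R 1] := by
        funext i
        fin_cases i
        · show m' = G a • m + G b • (d.t R • m)
          rw [← hu, hab, add_smul, mul_smul]
        · show d'.t R • m' = G (li * (b * f)) • m + G (li * a) • (d.t R • m)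
          rw [← hu, hab, ht', smul_smul, smul_smul, ← add_smul]
          congr 1
          simp only [map_mul, ← htt]
          ring
      rw [hfr, alt_two, show (![d.frame R 0, d.frame R 1]) = d.frame R from (List.ofFn_inj).1 (by simp)]
      congr 1
      ring
    show tmul (pullSec g (d'.w R φ)) (pullSec g e') = _ • tmul (pullSec g (d.w R φ)) (pullSec g e)
    rw [hw, ← hl, pullSec_smul, pullSec_smul, tmul_smul_smul, ← map_mul, mul_comm li, mul_assoc, hli, mul_one]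
  · show tmul m' (resM _ (le_σ hσg A.1) (pullSec σ m')) = _ • tmul m (resM _ (le_σ hσg A.1) (pullSec σ m))
    rw [← hu, pullSec_smul, resM_smul]
    refine (tmul_smul_smul _ _ _ _).trans ?_
    congr 1
    show u * (σ.appLE (g ⁻¹ᵁ A.1) (g ⁻¹ᵁ A.1) (le_σ hσg A.1)).hom u = _
    have h3 : (σ.appLE (g ⁻¹ᵁ A.1) (g ⁻¹ᵁ A.1) (le_σ hσg A.1)).hom (d.t R) = -d.t R :=
      hσt A e (CycCov28.cycGen he) (le_σ hσg A.1)
    rw [hab, map_add, map_mul, h3, σ_g hσg A.1 a, σ_g hσg A.1 b, map_sub, map_mul, map_mul, map_mul, ← htt]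
    ring

/-- `g^* det g_* M ⊗ g^* L ≅ M ⊗ σ^* M`. -/
theorem main (hL : PicF.IsInvertible L) (R : CycCov.Root L 2 s g) (hR : CycCov.IsSimple R)
    (hσg : σ ≫ g = g)
    (hσt : ∀ (U : Y.affineOpens) (e : L.val.obj (op U.1)) (he : CycCov.IsGen L U.1 e)
      (hle : g ⁻¹ᵁ U.1 ≤ σ ⁻¹ᵁ (g ⁻¹ᵁ U.1)),
      (σ.appLE (g ⁻¹ᵁ U.1) (g ⁻¹ᵁ U.1) hle).hom (R.t U e he) = -R.t U e he)
    (hM : PicF.IsInvertible M) (hΔ : ExtPow.IsExtPow 2 ((Scheme.Modules.pushforward g).obj M) Δ) :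
    Nonempty (CohB1.tensorMod ((Scheme.Modules.pullback g).obj Δ) ((Scheme.Modules.pullback g).obj L) ≅
      CohB1.tensorMod M ((Scheme.Modules.pullback σ).obj M)) := by
  obtain ⟨φ, hφ⟩ := hΔ
  haveI : IsFinite g := isFinite_cover hL R hR
  have hch : ∀ y : Y, ∃ d : Chart (g := g) (L := L) M, y ∈ d.V.1 := fun y => by
    obtain ⟨U, hy, e, he⟩ := exists_isGen hL y
    obtain ⟨U₁, hU₁, hy₁, hle₁⟩ := Opens.isBasis_iff_nbhd.mp Y.isBasis_affineOpens hy
    obtain ⟨U', hZU, hU'le, -, ⟨triv⟩⟩ := exists_triv_of_finite hM (hU₁.preimage g) (g ⁻¹' {y})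
      (g.finite_preimage_singleton y) (fun z hz => show g z ∈ U₁ from (hz : g z = y) ▸ hy₁)
    obtain ⟨m, hm⟩ := exists_gen_of_triv triv
    let O : Y.Opens := ⟨(g '' (U' : Set Yb)ᶜ)ᶜ, (g.isClosedMap _ U'.2.isClosed_compl).isOpen_compl⟩
    have hyO : y ∈ O ⊓ U₁ := ⟨fun ⟨z, hz, hzy⟩ => hz (hZU hzy), hy₁⟩
    obtain ⟨V, hV, hyV, hle⟩ := Opens.isBasis_iff_nbhd.mp Y.isBasis_affineOpens hyO
    have hVU' : g ⁻¹ᵁ V ≤ U' := fun z hz => by
      by_contra hzU
      exact (hle hz).1 ⟨z, hzU, rfl⟩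
    exact ⟨⟨⟨V, hV⟩, resM L ((hle.trans inf_le_right).trans hle₁) e, he.restrict _, resM M hVU' m,
      hm.restrict _⟩, hyV⟩
  choose d hd using hch
  have hcov : ⨆ y : Y, g ⁻¹ᵁ (d y).V.1 = ⊤ := eq_top_iff.2 fun z _ => Opens.mem_iSup.2 ⟨g z, hd (g z)⟩
  have hΔi : PicF.IsInvertible Δ :=
    isInvertible_of_gens fun y => ⟨_, hd y, _, (d y).isGen_w R φ hφ hR⟩
  have hsrc : ∀ c : Chart (g := g) (L := L) M, PicLib.IsGen _ (g ⁻¹ᵁ c.V.1) (c.src R φ) := fun c =>
    isGen_tmul (isGen_pullSec g (c.isGen_w R φ hφ hR) hΔi) (isGen_pullSec g c.he hL)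
  have htgt : ∀ c : Chart (g := g) (L := L) M, PicLib.IsGen _ (g ⁻¹ᵁ c.V.1) (c.tgt hσg) := fun c =>
    isGen_tmul c.hm ((isGen_pullSec σ c.hm hM).restrict _)
  have hc0 : ∀ (i j : Y) (W : Yb.Opens) (hi : W ≤ g ⁻¹ᵁ (d i).V.1) (hj : W ≤ g ⁻¹ᵁ (d j).V.1) (c : Γ(Yb, W)),
      resM _ hi ((d i).src R φ) = c • resM _ hj ((d j).src R φ) →
      resM _ hi ((d i).tgt hσg) = c • resM _ hj ((d j).tgt hσg) := by
    intro i j W hi hj c hc
    refine AmpleLib.sec_ext _ _ _ fun z hz => ?_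
    obtain ⟨A, hzA, hle⟩ : ∃ A : Y.affineOpens, g z ∈ A.1 ∧ A.1 ≤ (d i).V.1 ⊓ (d j).V.1 := by
      obtain ⟨A, hA, hzA, hle⟩ := Opens.isBasis_iff_nbhd.mp Y.isBasis_affineOpens
        (show g z ∈ (d i).V.1 ⊓ (d j).V.1 from ⟨hi hz, hj hz⟩)
      exact ⟨⟨A, hA⟩, hzA, hle⟩
    refine ⟨W ⊓ g ⁻¹ᵁ A.1, inf_le_left, ⟨hz, hzA⟩, ?_⟩
    have hiA : A.1 ≤ (d i).V.1 := hle.trans inf_le_left
    have hjA : A.1 ≤ (d j).V.1 := hle.trans inf_le_right
    obtain ⟨c₀, hs, ht⟩ := transition R hσg φ hR hσt A ((d j).restr A hjA).e ((d i).restr A hiA).e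
      ((d j).restr A hjA).he ((d i).restr A hiA).he ((d j).restr A hjA).m ((d i).restr A hiA).m
      ((d j).restr A hjA).hm ((d i).restr A hiA).hm
    have hs' : resM _ (g.preimage_mono hiA) ((d i).src R φ) = c₀ • resM _ (g.preimage_mono hjA) ((d j).src R φ) :=
      ((d i).src_restr R φ hφ A hiA).trans (hs.trans (congrArg _ ((d j).src_restr R φ hφ A hjA).symm))
    have ht' : resM _ (g.preimage_mono hiA) ((d i).tgt hσg) = c₀ • resM _ (g.preimage_mono hjA) ((d j).tgt hσg) :=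
      ((d i).tgt_restr hσg A hiA).trans (ht.trans (congrArg _ ((d j).tgt_restr hσg A hjA).symm))
    have key : Yb.presheaf.map (homOfLE (inf_le_left : W ⊓ g ⁻¹ᵁ A.1 ≤ W)).op c =
        Yb.presheaf.map (homOfLE (inf_le_right : W ⊓ g ⁻¹ᵁ A.1 ≤ g ⁻¹ᵁ A.1)).op c₀ := by
      have h1 := congrArg (resM _ (inf_le_left : W ⊓ g ⁻¹ᵁ A.1 ≤ W)) hc
      have h2 := congrArg (resM _ (inf_le_right : W ⊓ g ⁻¹ᵁ A.1 ≤ g ⁻¹ᵁ A.1)) hs'
      rw [resM_smul, resM_resM, resM_resM] at h1 h2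
      exact (hsrc (d j) _ _).1 (h1.symm.trans h2)
    have h3 := congrArg (resM _ (inf_le_right : W ⊓ g ⁻¹ᵁ A.1 ≤ g ⁻¹ᵁ A.1)) ht'
    rw [resM_smul, resM_resM, resM_resM] at h3
    rw [resM_smul, resM_resM, resM_resM, key]
    exact h3
  obtain ⟨e, -⟩ := exists_iso_of_gens (fun y : Y => g ⁻¹ᵁ (d y).V.1) hcov (fun y => (d y).src R φ)
    (fun y => hsrc (d y)) (fun y => (d y).tgt hσg) (fun y => htgt (d y)) hc0
  exact ⟨e⟩

end Groth.Agent.DblNorm28
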